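import Mathlib

/-!
# Extending approximations of complexes by one degree
-/

set_option autoImplicit false
set_option linter.style.haveILetI false
set_option linter.unusedSectionVars false
set_option backward.isDefEq.respectTransparency false
set_option backward.isDefEq.respectTransparency.types false

universe v u

open CategoryTheory Limits CochainComplex CochainComplex.HomComplex

noncomputable section

namespace Groth.Agent.AlgSpPC

variable {B : Type u} [Category.{v} B] [Abelian B]

theorem exists_inv_inr {F G : CochainComplex B ℤ} (s : F ⟶ G) (j : ℤ) (h : IsZero (F.X (j + 1))) :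
    IsIso ((mappingCone.inr s).f j) :=
  ⟨⟨(mappingCone.snd s).v j j (add_zero j), mappingCone.inr_f_snd_v s j,
    mappingCone.ext_from s (j + 1) j rfl (h.eq_of_src _ _) (by simp)⟩⟩

/-- One more degree. -/
theorem exists_extend {P K : CochainComplex B ℤ} (φ : P ⟶ K) (n : ℤ)
    (hC : ∀ j, n < j → (mappingCone φ).ExactAt j) (hP : ∀ i, i ≤ n → IsZero (P.X i))
    (F : B) (c : F ⟶ (mappingCone φ).X n) (hc : c ≫ (mappingCone φ).d n (n + 1) = 0)
    (hgen : (ShortComplex.mk (biprod.desc c ((mappingCone φ).d (n - 1) n)) ((mappingCone φ).d n (n + 1))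
      (by apply biprod.hom_ext' <;> simp [hc])).Exact) :
    ∃ (P' : CochainComplex B ℤ) (φ' : P' ⟶ K), (∀ i, i ≠ n → Nonempty (P'.X i ≅ P.X i)) ∧
      Nonempty (P'.X n ≅ F) ∧ ∀ j, n ≤ j → (mappingCone φ').ExactAt j := by
  let a := c ≫ (mappingCone.fst φ).1.v n (n + 1) rfl
  let b := c ≫ (mappingCone.snd φ).v n n (add_zero n)
  have hcab : c = a ≫ (mappingCone.inl φ).v (n + 1) n (by omega) + b ≫ (mappingCone.inr φ).f n :=
    mappingCone.ext_to φ n (n + 1) rfl (by simp [a, b]) (by simp [a, b])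
  have ha : a ≫ P.d (n + 1) (n + 2) = 0 := by
    have h1 : c ≫ (mappingCone φ).d n (n + 1) ≫ (mappingCone.fst φ).1.v (n + 1) (n + 2) (by omega) = 0 := by
      rw [← Category.assoc, hc, zero_comp]
    rw [mappingCone.d_fst_v φ n (n + 1) (n + 2) rfl (by omega)] at h1
    simpa [a] using h1
  have hab : a ≫ φ.f (n + 1) + b ≫ K.d n (n + 1) = 0 := by
    have h1 : c ≫ (mappingCone φ).d n (n + 1) ≫ (mappingCone.snd φ).v (n + 1) (n + 1) (add_zero _) = 0 := by
      rw [← Category.assoc, hc, zero_comp]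
    rw [mappingCone.d_snd_v φ n (n + 1) rfl] at h1
    simpa [a, b] using h1
  let S := (singleFunctor B (n + 1)).obj F
  let s : S ⟶ P := HomologicalComplex.mkHomFromSingle a fun k hk => by
    obtain rfl : k = n + 2 := by simp at hk; omega
    exact ha
  let e : S.X (n + 1) ≅ F := (HomologicalComplex.singleObjXSelf (ComplexShape.up ℤ) (n + 1) F)
  have hsf : s.f (n + 1) = e.hom ≫ a :=
    HomologicalComplex.mkHomFromSingle_f a _
  have hS : ∀ i, i ≠ n + 1 → IsZero (S.X i) := fun i hi =>
    HomologicalComplex.isZero_single_obj_X (ComplexShape.up ℤ) (n + 1) F i hi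
  let α : Cochain S K (-1) := Cochain.fromSingleMk (-b) (by omega : n + 1 + (-1) = n)
  have hα : δ (-1) 0 α = Cochain.ofHom (s ≫ φ) := by
    rw [show δ (-1) 0 α = _ from Cochain.δ_fromSingleMk (-b) _ 0 (n + 1) (add_zero _)]
    refine Cochain.ext₀ _ _ fun p => ?_
    rcases eq_or_ne p (n + 1) with rfl | hp
    · rw [Cochain.fromSingleMk_v, Cochain.ofHom_v, HomologicalComplex.comp_f, hsf, Category.assoc]
      congr 1
      rw [Preadditive.neg_comp, eq_neg_of_add_eq_zero_left hab]
    · exact (hS p hp).eq_of_src _ _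
  let P' := mappingCone s
  let φ' : P' ⟶ K := mappingCone.desc s α φ hα
  have hcomm : φ ≫ 𝟙 K = mappingCone.inr s ≫ φ' := by
    rw [Category.comp_id]
    exact (mappingCone.inr_desc s α φ hα).symm
  let ι := mappingCone.map φ φ' (mappingCone.inr s) (𝟙 K) hcomm
  have hιl : ∀ p q (h : p + (-1) = q), (mappingCone.inl φ).v p q h ≫ ι.f q =
      (mappingCone.inr s).f p ≫ (mappingCone.inl φ').v p q h := fun p q h => by
    simp [ι, mappingCone.map]
  have hιr : ∀ q, (mappingCone.inr φ).f q ≫ ι.f q = (mappingCone.inr φ').f q := fun q => by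
    simp [ι, mappingCone.map]
  have hinr : ∀ j, j ≠ n → IsIso ((mappingCone.inr s).f j) := fun j hj =>
    exists_inv_inr s j (hS _ (by omega))
  have hι : ∀ j, n ≤ j → IsIso (ι.f j) := fun j hj => by
    haveI := hinr (j + 1) (by omega)
    refine ⟨⟨(mappingCone.fst φ').1.v j (j + 1) rfl ≫ inv ((mappingCone.inr s).f (j + 1)) ≫
        (mappingCone.inl φ).v (j + 1) j (by omega) +
      (mappingCone.snd φ').v j j (add_zero j) ≫ (mappingCone.inr φ).f j, ?_, ?_⟩⟩
    · refine mappingCone.ext_from φ (j + 1) j rfl ?_ ?_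
      · rw [reassoc_of% (hιl (j + 1) j (by omega))]
        simp
      · rw [reassoc_of% (hιr j)]
        simp
    · refine mappingCone.ext_from φ' (j + 1) j rfl ?_ ?_
      · simp [hιl]
      · simp [hιr]
  haveI hιm : ∀ j, n ≤ j → Mono (ι.f j) := fun j hj => haveI := hι j hj; inferInstance
  refine ⟨P', φ', fun i hi => ⟨(haveI := hinr i hi; asIso ((mappingCone.inr s).f i)).symm⟩, ?_, ?_⟩
  · refine ⟨Iso.mk ((mappingCone.fst s).1.v n (n + 1) rfl ≫ (HomologicalComplex.singleObjXSelf _ (n + 1) F).hom)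
      ((HomologicalComplex.singleObjXSelf _ (n + 1) F).inv ≫ (mappingCone.inl s).v (n + 1) n (by omega)) ?_ ?_⟩
    · refine mappingCone.ext_from s (n + 1) n rfl ?_ ((hP n le_rfl).eq_of_src _ _)
      simp [S]
      exact (Category.comp_id _).symm
    · simp [S]
  intro j hj
  rw [HomologicalComplex.exactAt_iff' _ (j - 1) j (j + 1) (by simp) (by simp),
    ShortComplex.exact_iff_exact_up_to_refinements]
  intro A w (hw : w ≫ (mappingCone φ').d j (j + 1) = 0)
  haveI := hι j hj
  let w₀ := w ≫ inv (ι.f j)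
  haveI := hιm (j + 1) (by omega)
  have hw₀ : w₀ ≫ (mappingCone φ).d j (j + 1) = 0 := by
    rw [← cancel_mono (ι.f (j + 1)), zero_comp, Category.assoc, ← ι.comm j (j + 1)]
    simp only [w₀, Category.assoc, IsIso.inv_hom_id_assoc]
    exact hw
  rcases lt_or_eq_of_le hj with hj' | rfl
  · have he := hC j hj'
    rw [HomologicalComplex.exactAt_iff' _ (j - 1) j (j + 1) (by simp) (by simp),
      ShortComplex.exact_iff_exact_up_to_refinements] at he
    obtain ⟨A', π, hπ, x, hx⟩ := he w₀ hw₀
    refine ⟨A', π, hπ, x ≫ ι.f (j - 1), ?_⟩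
    show π ≫ w = (x ≫ ι.f (j - 1)) ≫ (mappingCone φ').d (j - 1) j
    calc π ≫ w = (π ≫ w₀) ≫ ι.f j := by simp [w₀]
      _ = (x ≫ (mappingCone φ).d (j - 1) j) ≫ ι.f j := congrArg (· ≫ ι.f j) hx
      _ = _ := by rw [Category.assoc, Category.assoc, ι.comm]
  · rw [ShortComplex.exact_iff_exact_up_to_refinements] at hgen
    obtain ⟨A', π, hπ, x, hx⟩ := hgen w₀ hw₀
    let εF : F ⟶ (mappingCone φ').X (n - 1) := e.inv ≫
      (mappingCone.inl s).v (n + 1) n (by omega) ≫ (mappingCone.inl φ').v n (n - 1) (by omega)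
    have hε : εF ≫ (mappingCone φ').d (n - 1) n = -(c ≫ ι.f n) := by
      have h1 := mappingCone.inl_v_d φ' n (n - 1) (n + 1) (by omega) (by omega)
      have h2 : (mappingCone.inl s).v (n + 1) n (by omega) ≫ (mappingCone s).d n (n + 1) =
          s.f (n + 1) ≫ (mappingCone.inr s).f (n + 1) := by
        rw [mappingCone.inl_v_d s (n + 1) n (n + 2) (by omega) (by omega)]
        simp [S, singleFunctor, singleFunctors]
      have h3 : (mappingCone.inl s).v (n + 1) n (by omega) ≫ φ'.f n =
          e.hom ≫ (-b) := by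
        refine (mappingCone.inl_v_desc_f s α φ hα (n + 1) n (by omega)).trans ?_
        exact Cochain.fromSingleMk_v _ _
      simp only [εF, Category.assoc]
      rw [h1, Preadditive.comp_sub, Preadditive.comp_sub, reassoc_of% h3, ← Category.assoc
        ((mappingCone.inl s).v (n + 1) n _) ((mappingCone s).d n (n + 1)), h2, hsf, hcab,
        Preadditive.add_comp]
      simp only [Category.assoc, hιl, hιr, Iso.inv_hom_id_assoc, Preadditive.neg_comp, neg_add]
      abel
    refine ⟨A', π, hπ, -((x ≫ biprod.fst) ≫ εF) + (x ≫ biprod.snd) ≫ ι.f (n - 1), ?_⟩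
    show π ≫ w = _ ≫ (mappingCone φ').d (n - 1) n
    have hx' : π ≫ w₀ = (x ≫ biprod.fst) ≫ c + (x ≫ biprod.snd) ≫ (mappingCone φ).d (n - 1) n := by
      rw [hx]
      show x ≫ biprod.desc c ((mappingCone φ).d (n - 1) n) = _
      simp only [biprod.desc_eq, Preadditive.comp_add, Category.assoc]
    calc π ≫ w = (π ≫ w₀) ≫ ι.f n := by simp [w₀]
      _ = ((x ≫ biprod.fst) ≫ c + (x ≫ biprod.snd) ≫ (mappingCone φ).d (n - 1) n) ≫ ι.f n := by rw [hx']
      _ = _ := by
        simp only [Preadditive.add_comp, Preadditive.neg_comp, Category.assoc, hε, Preadditive.comp_neg,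
          neg_neg, ι.comm]

end Groth.Agent.AlgSpPC

end
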