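import Groth.Agent.AlgSpLocFree.Free
import Groth.Agent.AlgSpQC.Ext
import Groth.Agent.AlgSpRlim.PC

/-!
# Finitely generated sections of cohomology
-/

set_option autoImplicit false
set_option linter.style.haveILetI false
set_option linter.unusedSectionVars false
set_option backward.isDefEq.respectTransparency false
set_option backward.isDefEq.respectTransparency.types false
set_option maxHeartbeats 800000

universe u

open CategoryTheory Limits Opposite

noncomputable section

namespace Groth.Agent.AlgSpPC

open AlgSpQC AlgSpRlim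

variable {C : Type (u + 1)} [Category.{u} C] {J : GrothendieckTopology C} {O : Sheaf J CommRingCat.{u + 1}}
  {Aff : C → Prop} (H : AffSite J O.obj Aff)
  [HasSheafify J AddCommGrpCat.{u + 1}] [J.WEqualsLocallyBijective AddCommGrpCat.{u + 1}]

/-- The functor of sections. -/
abbrev secF (O : Sheaf J CommRingCat.{u + 1}) (X : C) :
    SheafOfModules.{u + 1} (RS O) ⥤ ModuleCat.{u + 1} (O.obj.obj (op X)) :=
  SheafOfModules.forget.{u + 1} (RS O) ⋙ evalC O.obj X

instance (X : C) : (secF O X).Additive :=
  inferInstanceAs ((SheafOfModules.forget.{u + 1} (RS O) ⋙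
    PresheafOfModules.evaluation (RS O).obj (op X)).Additive)

include H in
theorem finite_of_iso {M N : SheafOfModules.{u + 1} (RS O)} (e : M ≅ N) (X : C)
    (h : Module.Finite (O.obj.obj (op X)) ((secF O X).obj M)) :
    Module.Finite (O.obj.obj (op X)) ((secF O X).obj N) :=
  haveI := h
  Module.Finite.equiv ((secF O X).mapIso e).toLinearEquiv

include H in
theorem finite_of_summand {M : SheafOfModules.{u + 1} (RS O)} (h : DCoh.IsFinFreeSummandMod (RS O) M) (X : C) :
    Module.Finite (O.obj.obj (op X)) ((secF O X).obj M) := by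
  obtain ⟨n, i, p, hip⟩ := h
  obtain ⟨b, -⟩ := AlgSpLocFree.exists_basis_free (O := O) (ULift.{u + 1} (Fin n)) X
  haveI : Module.Finite (O.obj.obj (op X))
      ((secF O X).obj (SheafOfModules.free (R := RS O) (ULift.{u + 1} (Fin n)))) := Module.Finite.of_basis b
  refine Module.Finite.of_surjective ((secF O X).map p).hom fun y => ⟨((secF O X).map i).hom y, ?_⟩
  exact congrArg (fun f => ((secF O X).map f).hom y) hip

include H in
theorem finite_of_mono {M N : SheafOfModules.{u + 1} (RS O)} (g : M ⟶ N) [Mono g] (X : C)
    [IsNoetherianRing (O.obj.obj (op X))] [Module.Finite (O.obj.obj (op X)) ((secF O X).obj N)] :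
    Module.Finite (O.obj.obj (op X)) ((secF O X).obj M) :=
  Module.Finite.of_injective ((secF O X).map g).hom (injective_sec H g X)

include H in
/-- Cohomology of complexes of summands of finite free modules has finitely generated sections on affines. -/
theorem finite_homology (P : CochainComplex (SheafOfModules.{u + 1} (RS O)) ℤ)
    (hP : ∀ i, DCoh.IsFinFreeSummandMod (RS O) (P.X i)) (i : ℤ) {X : C} (hX : Aff X)
    [IsNoetherianRing (O.obj.obj (op X))] :
    Module.Finite (O.obj.obj (op X)) ((secF O X).obj (P.homology i)) := by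
  let T := P.sc i
  have hb := fun j => bc_of_summand H (hP j)
  have hc : BC Aff T.cycles :=
    BC.of_iso ((kernelIsKernel T.g).conePointUniqueUpToIso T.cyclesIsKernel) (bc_kernel H T.g (hb _) (hb _))
  haveI := finite_of_summand H (hP i) X
  haveI : Module.Finite (O.obj.obj (op X)) ((secF O X).obj T.cycles) := finite_of_mono H (N := P.X i) T.iCycles X
  exact Module.Finite.of_surjective ((secF O X).map T.homologyπ).hom
    (surjective_of_epi H T.homologyπ hc (bc_homology H P hb i) hX)

include H in
/-- Extensions of finite modules are finite. -/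
theorem finite_ext (S : ShortComplex (SheafOfModules.{u + 1} (RS O))) (hS : S.ShortExact)
    (h₁ : BC Aff S.X₁) {X : C} (hX : Aff X)
    [Module.Finite (O.obj.obj (op X)) ((secF O X).obj S.X₁)] [Module.Finite (O.obj.obj (op X)) ((secF O X).obj S.X₃)] :
    Module.Finite (O.obj.obj (op X)) ((secF O X).obj S.X₂) := by
  haveI := hS.mono_f
  have hex : (S.map (secF O X)).Exact := hS.exact.map_of_mono_of_preservesKernel _ hS.mono_f
    (inferInstanceAs (PreservesLimit (parallelPair S.g 0) (SheafOfModules.forget.{u + 1} (RS O) ⋙
      PresheafOfModules.evaluation (RS O).obj (op X))))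
  exact Module.Finite.of_exact (f := ((secF O X).map S.f).hom) (g := ((secF O X).map S.g).hom)
    ((ShortComplex.ShortExact.moduleCat_exact_iff_function_exact _).1 hex) (surjective_of_shortExact H S hS h₁ hX)

variable {T : C} (hT : IsTerminal T)

include H hT in
/-- Finitely generated sections over an affine final object give finitely many generators. -/
theorem exists_epi_free {M : SheafOfModules.{u + 1} (RS O)} (hM : BC Aff M) (hTA : Aff T)
    [Module.Finite (O.obj.obj (op T)) ((secF O T).obj M)] :
    ∃ (k : ℕ) (ψ : SheafOfModules.free (R := RS O) (ULift.{u + 1} (Fin k)) ⟶ M), Epi ψ := by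
  obtain ⟨k, s, hs⟩ := Module.Finite.exists_fin (R := O.obj.obj (op T)) (M := (secF O T).obj M)
  have hsp : Submodule.span (O.obj.obj (op T))
      (Set.range fun i : ULift.{u + 1} (Fin k) => (show (evalC O.obj T).obj M.val from s i.down)) = ⊤ := by
    refine Eq.trans ?_ hs
    exact congrArg _ (Set.ext fun x => ⟨fun ⟨i, h⟩ => ⟨i.down, h⟩, fun ⟨i, h⟩ => ⟨⟨i⟩, h⟩⟩)
  exact ⟨k, (genOf H hT hM hTA _ hsp).π, (genOf H hT hM hTA _ hsp).epi⟩

end Groth.Agent.AlgSpPC

end
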