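import Groth.Agent.AlgSpPC.Restr
import Groth.Agent.AlgSpRlim.PerfLE
import Groth.Agent.AlgSpQC.MainFP

/-!
# Pseudo-coherent objects on locally Noetherian algebraic spaces
-/

set_option autoImplicit false
set_option linter.style.haveILetI false
set_option linter.unusedSectionVars false
set_option backward.isDefEq.respectTransparency false
set_option backward.isDefEq.respectTransparency.types false
set_option maxHeartbeats 1000000
set_option synthInstance.maxHeartbeats 400000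

universe u

open CategoryTheory Limits AlgebraicGeometry Opposite CochainComplex DerivedCategory

attribute [local instance] HasDerivedCategory.standard

noncomputable section

namespace Groth.Agent.AlgSpPC

open AlgSpQC AlgSpRlim

variable {S : Scheme.{u}} {X : AlgSp.Sp S}

/-- Every point of an object lies on an affine object over it. -/
theorem exists_aff_nhd (U : AlgSp.EtOver X) (x : U.obj.left.left) :
    ∃ (W : AlgSp.EtOver X) (g : W ⟶ U), Aff X W ∧ x ∈ Set.range g.hom.left.left := by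
  obtain ⟨V, hV, hxV, -⟩ := exists_isAffineOpen_mem_and_subset (x := x) (U := ⊤) trivial
  let z : Over.mk (V.ι ≫ U.obj.left.hom) ⟶ U.obj.left := Over.homMk V.ι rfl
  haveI : IsOpenImmersion z.left := inferInstanceAs (IsOpenImmersion V.ι)
  exact ⟨AlgSp.EtOver.mk ((AlgSp.yon S).map z ≫ U.obj.hom)
    ((AlgSp.repWith_isMultiplicative (S := S) @AlgebraicGeometry.Etale).comp_mem _ _
      ((AlgSp.repWith_yon_map_iff _ _).2 (inferInstance : AlgebraicGeometry.Etale z.left)) U.property),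
    AlgSp.EtOver.homMk z rfl, hV, ⟨x, hxV⟩, rfl⟩

theorem range_comp {U V W : AlgSp.EtOver X} (g : V ⟶ U) (g' : W ⟶ V) {z : U.obj.left.left} {v : V.obj.left.left}
    (hv : g.hom.left.left v = z) (hw : v ∈ Set.range g'.hom.left.left) :
    z ∈ Set.range (g' ≫ g).hom.left.left := by
  obtain ⟨w, rfl⟩ := hw
  exact ⟨w, hv⟩

variable (K : CochainComplex (AlgSp.ModEt X) ℤ)

/-- The complex on an object. -/
abbrev resK (W : AlgSp.EtOver X) : CochainComplex (AlgSp.ModEtOn W) ℤ :=
  ((AlgSp.resModEt W).mapHomologicalComplex (ComplexShape.up ℤ)).obj K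

/-- Chain level approximations from degree `n` on. -/
def Approx (n : ℤ) (W : AlgSp.EtOver X) : Prop :=
  ∃ (P : CochainComplex (AlgSp.ModEtOn W) ℤ) (φ : P ⟶ resK K W),
    (∃ b : ℤ, ∀ i : ℤ, i < n ∨ b < i → IsZero (P.X i)) ∧
      (∀ i : ℤ, DCoh.IsFinFreeSummandMod (AlgSp.OEtOn W) (P.X i)) ∧ ∀ j, n ≤ j → (mappingCone φ).ExactAt j

theorem approx_top (b : ℤ) (hb : ∀ j, b < j → K.ExactAt j) (W : AlgSp.EtOver X) : Approx K (b + 1) W := by
  let P : CochainComplex (AlgSp.ModEtOn W) ℤ := HomologicalComplex.zero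
  have hP : ∀ i, IsZero (P.X i) := fun i => isZero_zero _
  refine ⟨P, 0, ⟨b, fun i _ => hP i⟩, fun i => ⟨0, 0, 0, (hP i).eq_of_src _ _⟩, fun j hj => ?_⟩
  haveI : ∀ i, IsIso ((mappingCone.inr (0 : P ⟶ resK K W)).f i) := fun i => exists_inv_inr _ i (hP _)
  haveI : IsIso (mappingCone.inr (0 : P ⟶ resK K W)) := HomologicalComplex.Hom.isIso_of_components _
  exact (exactAt_map (AlgSp.resModEt W) (hb j (by omega))).of_iso (asIso (mappingCone.inr (0 : P ⟶ resK K W)))

theorem step (hQ : ∀ i, QC (K.homology i)) (hN : AlgSp.IsLocNoethSp X) (n : ℤ)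
    (hfin : ∀ E, Aff X E → Module.Finite ((AlgSp.OEt X).obj.obj (op E)) (Sec (K.homology n) E))
    {W : AlgSp.EtOver X} (hW : Aff X W) (hA : Approx K (n + 1) W) (z : W.obj.left.left) :
    ∃ (W' : AlgSp.EtOver X) (g : W' ⟶ W), Aff X W' ∧ z ∈ Set.range g.hom.left.left ∧ Approx K n W' := by
  obtain ⟨P, φ, ⟨b, hPb⟩, hPs, hC⟩ := hA
  have hP : ∀ i, i ≤ n → IsZero (P.X i) := fun i hi => hPb i (Or.inl (by omega))
  let H' := (affSite X).over W
  have hT : AffOver (Aff X) W (topOn W) := hW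
  haveI : IsNoetherianRing (((AlgSp.OEt X).over W).obj.obj (op (topOn W))) := isNoetherianRing_aff hN hW
  have hres : ∀ i, BC (O := (AlgSp.OEt X).over W) (AffOver (Aff X) W) ((resK K W).homology i) := fun i =>
    BC.of_iso (O := (AlgSp.OEt X).over W) ((K.sc i).mapHomologyIso (AlgSp.resModEt W)).symm ((hQ i).over W)
  have hf1 := finite_of_iso (O := (AlgSp.OEt X).over W) H'
    ((K.sc n).mapHomologyIso (AlgSp.resModEt W)).symm (topOn W) (hfin W hW)
  obtain ⟨Sq, hSq, ⟨e₁⟩, ⟨e₂⟩, ⟨e₃⟩⟩ := exists_ses φ n (hP n le_rfl)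
  have hb := fun i => bc_homology_perf W P hPs i
  have h1 : BC (O := (AlgSp.OEt X).over W) (AffOver (Aff X) W) Sq.X₁ :=
    BC.of_iso (O := (AlgSp.OEt X).over W) e₁.symm (hres n)
  have h3 : BC (O := (AlgSp.OEt X).over W) (AffOver (Aff X) W) Sq.X₃ :=
    BC.of_iso (O := (AlgSp.OEt X).over W) e₃.symm
      (bc_kernel (O := (AlgSp.OEt X).over W) H' (HomologicalComplex.homologyMap φ (n + 1)) (hb _) (hres _))
  haveI := finite_of_iso (O := (AlgSp.OEt X).over W) H' e₁.symm (topOn W) hf1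
  haveI : Module.Finite (((AlgSp.OEt X).over W).obj.obj (op (topOn W)))
      ((secF ((AlgSp.OEt X).over W) (topOn W)).obj (P.homology (n + 1))) :=
    finite_homology (O := (AlgSp.OEt X).over W) H' P hPs (n + 1) hT
  haveI := finite_of_mono (O := (AlgSp.OEt X).over W) H'
    (kernel.ι (HomologicalComplex.homologyMap φ (n + 1))) (topOn W)
  haveI := finite_of_iso (O := (AlgSp.OEt X).over W) H' e₃.symm (topOn W) inferInstance
  haveI := finite_ext (O := (AlgSp.OEt X).over W) H' Sq hSq h1 (X := topOn W) hT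
  haveI := finite_of_iso (O := (AlgSp.OEt X).over W) H' e₂ (topOn W) inferInstance
  have h2 : BC (O := (AlgSp.OEt X).over W) (AffOver (Aff X) W) ((mappingCone φ).homology n) :=
    BC.of_iso (O := (AlgSp.OEt X).over W) e₂ (bc_ext (O := (AlgSp.OEt X).over W) H' Sq hSq h1 h3)
  obtain ⟨k, ψ, hψ⟩ := exists_epi_free (O := (AlgSp.OEt X).over W) H' Over.mkIdTerminal h2 hT
  haveI : Epi (C := AlgSp.ModEtOn W) ψ := hψ
  obtain ⟨W', g, l, hW', hz, hl⟩ := exists_lift ((mappingCone φ).homologyπ n) ψ hW z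
  obtain ⟨P', φ', hne, ⟨en⟩, hex⟩ :=
    exists_extend_map (rG g) φ n (fun j hj => hC j (by omega)) hP (freeN W k) ψ l hl
  refine ⟨W', g, hW', hz, P', φ' ≫ (resCxIso g K).hom, ⟨max b n, fun i hi => ?_⟩, fun i => ?_, fun j hj => ?_⟩
  · have hin : i ≠ n := by omega
    obtain ⟨e⟩ := hne i hin
    exact ((rG g).map_isZero (hPb i (by omega))).of_iso e
  · rcases eq_or_ne i n with rfl | hin
    · exact isSummand_of_iso en.symm (isSummand_rG_free g k)
    · obtain ⟨e⟩ := hne i hin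
      exact isSummand_of_iso e.symm (isSummand_rG g (hPs i))
  · haveI : IsIso (mappingCone.map φ' (φ' ≫ (resCxIso g K).hom) (𝟙 P') (resCxIso g K).hom
        (Category.id_comp _).symm) :=
      ⟨⟨mappingCone.map (φ' ≫ (resCxIso g K).hom) φ' (𝟙 P') (resCxIso g K).inv
          (by rw [Category.assoc, Iso.hom_inv_id, Category.comp_id, Category.id_comp]),
        by rw [← mappingCone.map_comp]; simp [mappingCone.map_id],
        by rw [← mappingCone.map_comp]; simp [mappingCone.map_id]⟩⟩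
    exact (hex j hj).of_iso (asIso (mappingCone.map φ' (φ' ≫ (resCxIso g K).hom) (𝟙 P') (resCxIso g K).hom
      (Category.id_comp _).symm))

theorem exists_approx (hQ : ∀ i, QC (K.homology i)) (hN : AlgSp.IsLocNoethSp X) (b : ℤ)
    (hb : ∀ j, b < j → K.ExactAt j) : ∀ (k : ℕ),
    (∀ i, b + 1 - k ≤ i → ∀ E, Aff X E → Module.Finite ((AlgSp.OEt X).obj.obj (op E)) (Sec (K.homology i) E)) →
    ∀ (W : AlgSp.EtOver X), Aff X W → ∀ z : W.obj.left.left, ∃ (W' : AlgSp.EtOver X) (g : W' ⟶ W),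
      Aff X W' ∧ z ∈ Set.range g.hom.left.left ∧ Approx K (b + 1 - k) W' := by
  intro k
  induction k with
  | zero =>
    intro _ W hW z
    exact ⟨W, 𝟙 W, hW, ⟨z, rfl⟩, by simpa using approx_top K b hb W⟩
  | succ k ih =>
    intro hfin W hW z
    obtain ⟨W₁, g₁, hW₁, ⟨v, hv⟩, hA⟩ := ih (fun i hi => hfin i (by omega)) W hW z
    obtain ⟨W', g', hW', hz', hA'⟩ := step K hQ hN (b + 1 - (k + 1 : ℕ)) (hfin _ le_rfl) hW₁
      (by convert hA using 1; omega) v
    exact ⟨W', g' ≫ g₁, hW', range_comp g₁ g' hv hz', hA'⟩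

/-- A chain level approximation gives an approximation in the derived category. -/
theorem exists_derived (E : AlgSp.DModEt X) (e : Q.obj K ≅ E) (m : ℤ) (W : AlgSp.EtOver X) (h : Approx K m W) :
    ∃ (P : CochainComplex (AlgSp.ModEtOn W) ℤ) (α : DCoh.toDMod (AlgSp.OEtOn W) P ⟶ (AlgSp.resDEt W).obj E),
      DCoh.IsStrictlyPerfectMod (AlgSp.OEtOn W) P ∧
        (∀ j : ℤ, m < j → IsIso ((homologyFunctor (AlgSp.ModEtOn W) j).map α)) ∧
        Epi ((homologyFunctor (AlgSp.ModEtOn W) m).map α) := by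
  obtain ⟨P, φ, ⟨b, hb⟩, hPs, hC⟩ := h
  obtain ⟨hiso, hepi⟩ := homology_of_exact φ m hC
  let τ : Q.obj (resK K W) ≅ (AlgSp.resDEt W).obj E :=
    ((AlgSp.resModEt W).mapDerivedCategoryFactors.app K).symm ≪≫ (AlgSp.resDEt W).mapIso e
  refine ⟨P, Q.map φ ≫ τ.hom, ⟨⟨m, b, hb⟩, hPs⟩, fun j hj => ?_, ?_⟩
  · haveI := hiso j hj
    exact (congrArg IsIso ((homologyFunctor (AlgSp.ModEtOn W) j).map_comp (Q.map φ) τ.hom)).mpr inferInstance
  · haveI := hepi
    exact (congrArg Epi ((homologyFunctor (AlgSp.ModEtOn W) m).map_comp (Q.map φ) τ.hom)).mpr (epi_comp _ _)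

/-- Finitely generated cohomology in high degrees gives pseudo-coherence. -/
theorem isPseudoCoherentEtD_of_finite (hN : AlgSp.IsLocNoethSp X) (E : AlgSp.DModEt X)
    (hQE : ∀ i, QC ((homologyFunctor (AlgSp.ModEt X) i).obj E)) (m b : ℤ) [E.IsLE b]
    (hfin : ∀ i, m ≤ i → ((homologyFunctor (AlgSp.ModEt X) i).obj E).IsFiniteType) :
    AlgSp.IsPseudoCoherentEtD m E := by
  let K := Q.objPreimage E
  let e : Q.obj K ≅ E := Q.objObjPreimageIso E
  let eh : ∀ i, (homologyFunctor (AlgSp.ModEt X) i).obj E ≅ K.homology i := fun i =>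
    (homologyFunctor _ i).mapIso e.symm ≪≫ (homologyFunctorFactors _ i).app K
  have hQ : ∀ i, QC (K.homology i) := fun i => BC.of_iso (O := AlgSp.OEt X) (eh i) (hQE i)
  have hex : ∀ j, max b (m - 1) < j → K.ExactAt j := fun j hj =>
    (K.exactAt_iff_isZero_homology j).2 ((isZero_of_isLE E b j (by omega)).of_iso (eh j).symm)
  intro U
  have key : ∀ x : U.obj.left.left, ∃ (W : AlgSp.EtOver X) (g : W ⟶ U), x ∈ Set.range g.hom.left.left ∧
      Approx K m W := fun x => by
    obtain ⟨W₀, g₀, hW₀, v, hv⟩ := exists_aff_nhd U x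
    obtain ⟨W, g, hW, hz, hA⟩ := exists_approx K hQ hN (max b (m - 1)) hex (max b (m - 1) + 1 - m).toNat
      (fun i hi E hE => by
        exact finite_of_iso (O := AlgSp.OEt X) (affSite X) (eh i) E
          ((isFiniteType_iff (hQE i)).1 (hfin i (by omega)) E hE)) W₀ hW₀ v
    refine ⟨W, g ≫ g₀, range_comp g₀ g hv hz, ?_⟩
    convert hA using 1
    omega
  choose W g hg hA using key
  refine ⟨ULift.{u + 1} U.obj.left.left, fun x => W x.down, fun x => g x.down, ?_, fun x =>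
    exists_derived K E e m _ (hA x.down)⟩
  rw [AlgSp.ofArrows_mem_etPre_iff]
  exact fun x => ⟨⟨x⟩, hg x⟩

/-- Cohomology of a pseudo-coherent object is of finite type. -/
theorem finite_of_pc (hN : AlgSp.IsLocNoethSp X) (E : AlgSp.DModEt X) {m : ℤ} (hE : AlgSp.IsPseudoCoherentEtD m E)
    {i : ℤ} (hi : m ≤ i) (hQi : QC ((homologyFunctor (AlgSp.ModEt X) i).obj E)) :
    ((homologyFunctor (AlgSp.ModEt X) i).obj E).IsFiniteType := by
  refine (isFiniteType_iff hQi).2 fun A hA => finite_sec_local hQi hA fun z => ?_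
  obtain ⟨ι, V, g, hg, hV⟩ := hE A
  rw [AlgSp.ofArrows_mem_etPre_iff] at hg
  obtain ⟨k, v, hv⟩ := hg z
  obtain ⟨P, α, ⟨-, hP⟩, hiso, hepi⟩ := hV k
  obtain ⟨W, a, hW, hwv⟩ := exists_aff_nhd (V k) v
  refine ⟨W, a ≫ g k, hW, range_comp (g k) a hv hwv, ?_⟩
  obtain ⟨er⟩ := nonempty_homology_mapDerived (AlgSp.resModEt (V k)) E i
  haveI : Epi ((homologyFunctor (AlgSp.ModEtOn (V k)) i).map α) := by
    rcases eq_or_lt_of_le hi with rfl | hlt
    · exact hepi
    · haveI := hiso i hlt; infer_instance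
  let π : P.homology i ⟶ (AlgSp.resModEt (V k)).obj ((homologyFunctor (AlgSp.ModEt X) i).obj E) :=
    ((homologyFunctorFactors (AlgSp.ModEtOn (V k)) i).app P).inv ≫
      (homologyFunctor (AlgSp.ModEtOn (V k)) i).map α ≫ er.hom
  haveI : Epi π := by
    haveI := epi_comp ((homologyFunctor (AlgSp.ModEtOn (V k)) i).map α) er.hom
    exact epi_comp _ _
  let H' := (affSite X).over (V k)
  haveI : IsNoetherianRing (((AlgSp.OEt X).over (V k)).obj.obj (op (Over.mk a))) := isNoetherianRing_aff hN hW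
  haveI := finite_homology (O := (AlgSp.OEt X).over (V k)) H' P hP i (X := Over.mk a) hW
  exact Module.Finite.of_surjective ((secF ((AlgSp.OEt X).over (V k)) (Over.mk a)).map π).hom
    (surjective_of_epi (O := (AlgSp.OEt X).over (V k)) H' π (bc_homology_perf (V k) P hP i) (hQi.over (V k))
      (X := Over.mk a) hW)

/-- A pseudo-coherent object on a quasi-compact space is bounded above. -/
theorem exists_isLE_of_pc (hX : AlgSp.IsQuasiCompactSp X) {m : ℤ} {E : AlgSp.DModEt X}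
    (hE : AlgSp.IsPseudoCoherentEtD m E) : ∃ B : ℤ, E.IsLE B := by
  obtain ⟨U₀, p, hpe, hps, hU₀⟩ := hX
  haveI : CompactSpace ↥U₀.left := hU₀
  obtain ⟨ι, V, g, hg, hV⟩ := hE (AlgSp.EtOver.mk p hpe)
  rw [AlgSp.ofArrows_mem_etPre_iff] at hg
  choose P α hP hiso _ using hV
  choose a b hab using fun i => (hP i).1
  obtain ⟨I, hI⟩ := (isCompact_univ (X := ↥U₀.left)).elim_finite_subcover
    (fun i => Set.range (g i).hom.left.left)
    (fun i => haveI := AlgSp.EtOver.etale_left (g i); ((g i).hom.left.left).isOpenMap.isOpen_range)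
    (fun x _ => Set.mem_iUnion.2 (hg x))
  let B : ℤ := I.fold max m b
  refine ⟨B, (DerivedCategory.isLE_iff _ _).2 fun j hj => isZero_of_sections _ fun A s => ?_⟩
  obtain ⟨W, w, ⟨r⟩, hw⟩ := exists_common p hpe hps (fun i : ULift.{u + 1} {i // i ∈ I} => V i.down.1)
    (fun i => g i.down.1) (fun x => by
      obtain ⟨i, hi, hx⟩ := Set.mem_iUnion₂.1 (hI (Set.mem_univ x))
      exact ⟨⟨⟨i, hi⟩⟩, hx⟩) A
  refine eq_zero_of_cover _ W w hw s fun i => ?_
  refine sec_eq_zero_of_res (r i) ?_ _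
  obtain ⟨h⟩ := nonempty_homology_mapDerived (AlgSp.resModEt (V i.down.1)) E j
  have hm : m ≤ B := Finset.le_fold_max m |>.2 (Or.inl le_rfl)
  have hle : b i.down.1 ≤ B := Finset.le_fold_max (b i.down.1) |>.2 (Or.inr ⟨i.down.1, i.down.2, le_rfl⟩)
  haveI := hiso i.down.1 j (by omega)
  refine IsZero.of_iso ?_ (h.symm ≪≫ (asIso ((homologyFunctor _ j).map (α i.down.1))).symm ≪≫
    (homologyFunctorFactors _ j).app (P i.down.1))
  refine (HomologicalComplex.exactAt_iff_isZero_homology _ _).1 ?_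
  rw [HomologicalComplex.exactAt_iff]
  exact ShortComplex.exact_of_isZero_X₂ _ (hab i.down.1 j (Or.inr (by omega)))

end Groth.Agent.AlgSpPC

end
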