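import Groth.Agent.AlgSpPC.Cone

/-!
# Approximations after an exact functor, and their homology
-/

set_option autoImplicit false
set_option linter.style.haveILetI false
set_option linter.unusedSectionVars false
set_option backward.isDefEq.respectTransparency false
set_option backward.isDefEq.respectTransparency.types false

universe w v v' u u'

open CategoryTheory Limits CochainComplex Pretriangulated

noncomputable section

namespace Groth.Agent.AlgSpPC

section Map

variable {A : Type u} [Category.{v} A] [Abelian A] {B : Type u'} [Category.{v'} B] [Abelian B] (G : A ⥤ B)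
  [G.Additive] [PreservesFiniteLimits G] [PreservesFiniteColimits G]

/-- The mapping cone of the image. -/
abbrev coneIso {P K : CochainComplex A ℤ} (φ : P ⟶ K) :
    (G.mapHomologicalComplex (ComplexShape.up ℤ)).obj (mappingCone φ) ≅
      mappingCone ((G.mapHomologicalComplex (ComplexShape.up ℤ)).map φ) :=
  mappingCone.mapHomologicalComplexIso φ G

theorem exactAt_map {L : CochainComplex A ℤ} {j : ℤ} (h : L.ExactAt j) :
    ((G.mapHomologicalComplex (ComplexShape.up ℤ)).obj L).ExactAt j :=
  h.map G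

theorem exactAt_cone_map {P K : CochainComplex A ℤ} (φ : P ⟶ K) {j : ℤ} (h : (mappingCone φ).ExactAt j) :
    (mappingCone ((G.mapHomologicalComplex (ComplexShape.up ℤ)).map φ)).ExactAt j :=
  (exactAt_map G h).of_iso (coneIso G φ)

/-- One more degree, after an exact functor along which the generators lift to cocycles. -/
theorem exists_extend_map {P K : CochainComplex A ℤ} (φ : P ⟶ K) (n : ℤ)
    (hC : ∀ j, n < j → (mappingCone φ).ExactAt j) (hP : ∀ i, i ≤ n → IsZero (P.X i))
    (F : A) (ψ : F ⟶ (mappingCone φ).homology n) [Epi ψ]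
    (l : G.obj F ⟶ G.obj ((mappingCone φ).cycles n))
    (hl : l ≫ G.map ((mappingCone φ).homologyπ n) = G.map ψ) :
    ∃ (P' : CochainComplex B ℤ) (φ' : P' ⟶ (G.mapHomologicalComplex (ComplexShape.up ℤ)).obj K),
      (∀ i, i ≠ n → Nonempty (P'.X i ≅ G.obj (P.X i))) ∧ Nonempty (P'.X n ≅ G.obj F) ∧
        ∀ j, n ≤ j → (mappingCone φ').ExactAt j := by
  let C := mappingCone φ
  let Gφ := (G.mapHomologicalComplex (ComplexShape.up ℤ)).map φ
  let e := coneIso G φ
  have hd : G.map (C.iCycles n) ≫ G.map (C.d n (n + 1)) = 0 := by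
    rw [← G.map_comp, HomologicalComplex.iCycles_d, G.map_zero]
  let c : G.obj F ⟶ (mappingCone Gφ).X n := l ≫ G.map (C.iCycles n) ≫ e.hom.f n
  have hc : c ≫ (mappingCone Gφ).d n (n + 1) = 0 := by
    simp only [c, Category.assoc]
    refine (congrArg (fun t => l ≫ G.map (C.iCycles n) ≫ t) (e.hom.comm n (n + 1))).trans ?_
    show l ≫ G.map (C.iCycles n) ≫ G.map (C.d n (n + 1)) ≫ _ = 0
    rw [reassoc_of% hd, zero_comp, comp_zero]
  refine exists_extend Gφ n (fun j hj => exactAt_cone_map G φ (hC j hj)) (fun i hi => G.map_isZero (hP i hi))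
    (G.obj F) c hc ?_
  rw [ShortComplex.exact_iff_exact_up_to_refinements]
  intro T w (hw : w ≫ (mappingCone Gφ).d n (n + 1) = 0)
  let w₀ : T ⟶ G.obj (C.X n) := w ≫ e.inv.f n
  have hw₀ : w₀ ≫ G.map (C.d n (n + 1)) = 0 := by
    show (w ≫ e.inv.f n) ≫ ((G.mapHomologicalComplex _).obj C).d n (n + 1) = 0
    rw [Category.assoc, e.inv.comm n (n + 1), reassoc_of% hw, zero_comp]
  let Z : ShortComplex A := ShortComplex.mk (C.iCycles n) (C.d n (n + 1)) (C.iCycles_d n (n + 1))
  have hZ : Z.Exact := Z.exact_of_f_is_kernel (C.cyclesIsKernel n (n + 1) (by simp))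
  haveI : Mono (Z.map G).f := inferInstanceAs (Mono (G.map (C.iCycles n)))
  obtain ⟨z, hz⟩ : ∃ z : T ⟶ G.obj (C.cycles n), z ≫ G.map (C.iCycles n) = w₀ :=
    ⟨(hZ.map G).lift w₀ hw₀, (hZ.map G).lift_f w₀ hw₀⟩
  haveI : Epi (G.map ψ) := inferInstance
  obtain ⟨T₁, π₁, hπ₁, g, hg⟩ := surjective_up_to_refinements_of_epi (G.map ψ) (z ≫ G.map (C.homologyπ n))
  let H : ShortComplex A := ShortComplex.mk (C.toCycles (n - 1) n) (C.homologyπ n) (C.toCycles_comp_homologyπ _ _)
  have hH : H.Exact := H.exact_of_g_is_cokernel (C.homologyIsCokernel (n - 1) n (by simp))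
  obtain ⟨T₂, π₂, hπ₂, y, hy⟩ := (ShortComplex.exact_iff_exact_up_to_refinements _).1 (hH.map G) (π₁ ≫ z - g ≫ l) (by
    show (π₁ ≫ z - g ≫ l) ≫ G.map (C.homologyπ n) = 0
    rw [Preadditive.sub_comp, Category.assoc, Category.assoc, hl, hg, sub_self])
  refine ⟨T₂, π₂ ≫ π₁, epi_comp _ _, biprod.lift (π₂ ≫ g) (y ≫ e.hom.f (n - 1)), ?_⟩
  show (π₂ ≫ π₁) ≫ w = _ ≫ biprod.desc c _
  rw [biprod.lift_desc]
  have hy' : π₂ ≫ π₁ ≫ z = y ≫ G.map (C.toCycles (n - 1) n) + π₂ ≫ g ≫ l := by
    rw [← sub_eq_iff_eq_add, ← Preadditive.comp_sub]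
    exact hy
  have hw' : w = z ≫ G.map (C.iCycles n) ≫ e.hom.f n := by
    rw [reassoc_of% hz]
    simp only [w₀, Category.assoc]
    exact ((congrArg (w ≫ ·) (congrArg (fun h => HomologicalComplex.Hom.f h n) e.inv_hom_id)).trans (Category.comp_id w)).symm
  calc (π₂ ≫ π₁) ≫ w = (π₂ ≫ π₁ ≫ z) ≫ G.map (C.iCycles n) ≫ e.hom.f n := by
        rw [hw']; simp only [Category.assoc]
    _ = _ := by
      rw [hy']
      simp only [Preadditive.add_comp, Category.assoc, c]
      rw [← G.map_comp_assoc, HomologicalComplex.toCycles_i, add_comm]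
      congr 2
      exact (e.hom.comm (n - 1) n).symm

end Map

section Derived

variable {A : Type u} [Category.{v} A] [Abelian A] [HasDerivedCategory.{w} A]

open DerivedCategory

theorem isZero_homology_cone {P K : CochainComplex A ℤ} {φ : P ⟶ K} {j : ℤ} (h : (mappingCone φ).ExactAt j) :
    IsZero ((homologyFunctor A j).obj (Q.obj (mappingCone φ))) :=
  ((mappingCone φ).exactAt_iff_isZero_homology j).1 h |>.of_iso ((homologyFunctorFactors A j).app _)

/-- The invariant gives isomorphisms above and an epimorphism at the bottom. -/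
theorem homology_of_exact {P K : CochainComplex A ℤ} (φ : P ⟶ K) (n : ℤ)
    (h : ∀ j, n ≤ j → (mappingCone φ).ExactAt j) :
    (∀ j, n < j → IsIso ((homologyFunctor A j).map (Q.map φ))) ∧ Epi ((homologyFunctor A n).map (Q.map φ)) := by
  let T := Q.mapTriangle.obj (mappingCone.triangle φ)
  have hT : T ∈ distTriang _ := mappingCone_triangle_distinguished φ
  have hz : ∀ j, n ≤ j → IsZero ((homologyFunctor A j).obj T.obj₃) := fun j hj => isZero_homology_cone (h j hj)
  have hepi : ∀ j, n ≤ j → Epi ((homologyFunctor A j).map T.mor₁) := fun j hj =>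
    (HomologySequence.epi_homologyMap_mor₁_iff T hT j).2 ((hz j hj).eq_of_tgt _ _)
  refine ⟨fun j hj => ?_, hepi n le_rfl⟩
  haveI : Epi ((homologyFunctor A j).map T.mor₁) := hepi j hj.le
  haveI : Mono ((homologyFunctor A j).map T.mor₁) :=
    (HomologySequence.mono_homologyMap_mor₁_iff T hT (j - 1) j (by omega)).2 ((hz (j - 1) (by omega)).eq_of_src _ _)
  exact isIso_of_mono_of_epi ((homologyFunctor A j).map T.mor₁)

/-- The cohomology of the cone in the bottom degree. -/
theorem exists_ses {P K : CochainComplex A ℤ} (φ : P ⟶ K) (n : ℤ) (hP : IsZero (P.X n)) :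
    ∃ S : ShortComplex A, S.ShortExact ∧ Nonempty (S.X₁ ≅ K.homology n) ∧
      Nonempty (S.X₂ ≅ (mappingCone φ).homology n) ∧
      Nonempty (S.X₃ ≅ kernel (HomologicalComplex.homologyMap φ (n + 1))) := by
  let T := Q.mapTriangle.obj (mappingCone.triangle φ)
  have hT : T ∈ distTriang _ := mappingCone_triangle_distinguished φ
  let m₁ := (homologyFunctor A (n + 1)).map T.mor₁
  let δ := HomologySequence.δ T n (n + 1) rfl
  let g : (homologyFunctor A n).obj T.obj₃ ⟶ kernel m₁ :=
    kernel.lift m₁ δ (HomologySequence.δ_comp T hT n (n + 1) rfl)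
  haveI : Mono ((homologyFunctor A n).map T.mor₂) :=
    (HomologySequence.mono_homologyMap_mor₂_iff T hT n).2 (by
      refine IsZero.eq_of_src ?_ _ _
      exact (((P.exactAt_iff_isZero_homology n).1 ((P.exactAt_iff' (n - 1) n (n + 1) (by simp) (by simp)).2
        (ShortComplex.exact_of_isZero_X₂ _ hP)))).of_iso ((homologyFunctorFactors A n).app P))
  have hgi : g ≫ kernel.ι m₁ = δ := kernel.lift_ι _ _ _
  have h0 : (homologyFunctor A n).map T.mor₂ ≫ g = 0 := by
    rw [← cancel_mono (kernel.ι m₁), Category.assoc, hgi, zero_comp]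
    exact HomologySequence.comp_δ T hT n (n + 1) rfl
  haveI : Epi g := ((HomologySequence.exact₁ T hT n (n + 1) rfl).epi_kernelLift)
  have hex : (ShortComplex.mk _ g h0).Exact := by
    rw [ShortComplex.exact_iff_exact_up_to_refinements]
    intro Z x hx
    exact (ShortComplex.exact_iff_exact_up_to_refinements _).1 (HomologySequence.exact₃ T hT n (n + 1) rfl) x (by
      show x ≫ δ = 0
      rw [← hgi, ← Category.assoc]
      exact (congrArg (· ≫ kernel.ι m₁) hx).trans zero_comp)
  refine ⟨ShortComplex.mk _ g h0, ⟨hex⟩, ⟨(homologyFunctorFactors A n).app K⟩,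
    ⟨(homologyFunctorFactors A n).app (mappingCone φ)⟩, ⟨?_⟩⟩
  exact kernel.mapIso m₁ _ ((homologyFunctorFactors A (n + 1)).app P) ((homologyFunctorFactors A (n + 1)).app K)
    ((homologyFunctorFactors A (n + 1)).hom.naturality φ)

end Derived

end Groth.Agent.AlgSpPC

end
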