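import Groth.Agent.AlgSpPC.Fin
import Groth.Agent.AlgSpPC.Step
import Groth.Agent.AlgSpShriek.Ops
import Groth.Agent.AlgSpQC.PushFin

/-!
# Restriction along morphisms of the small étale site
-/

set_option autoImplicit false
set_option linter.style.haveILetI false
set_option linter.unusedSectionVars false
set_option backward.isDefEq.respectTransparency false
set_option backward.isDefEq.respectTransparency.types false
set_option maxHeartbeats 800000

universe u

open CategoryTheory Limits AlgebraicGeometry Opposite CochainComplex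

noncomputable section

namespace Groth.Agent.AlgSpPC

open AlgSpQC

variable {S : Scheme.{u}} {X : AlgSp.Sp S} {V W : AlgSp.EtOver X} (g : W ⟶ V)

/-- Restriction of modules from one object to an object over it. -/
abbrev rG : AlgSp.ModEtOn V ⥤ AlgSp.ModEtOn W := SheafOfModules.overMap.{u + 1} (AlgSp.OEtRing X) g

instance additive_rG : (rG g).Additive where
  map_add := by intros; rfl

instance preservesFiniteLimits_rG : PreservesFiniteLimits (rG g) := by
  have h1 : PreservesFiniteLimits (rG g ⋙ SheafOfModules.toSheaf.{u + 1} _) := by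
    have e : rG g ⋙ SheafOfModules.toSheaf.{u + 1} _ = SheafOfModules.toSheaf _ ⋙
        (Over.map g).sheafPushforwardContinuous AddCommGrpCat.{u + 1} ((AlgSp.etTop X).over W)
          ((AlgSp.etTop X).over V) := rfl
    rw [e]; infer_instance
  exact preservesFiniteLimits_of_reflects_of_preserves (rG g) (SheafOfModules.toSheaf.{u + 1} _)

instance isLeftAdjoint_rG : (rG g).IsLeftAdjoint := by
  unfold rG SheafOfModules.overMap; infer_instance

instance preservesFiniteColimits_rG : PreservesFiniteColimits (rG g) := inferInstance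

/-- Restricting in two steps. -/
def resCxIso (K : CochainComplex (AlgSp.ModEt X) ℤ) :
    ((rG g).mapHomologicalComplex (ComplexShape.up ℤ)).obj
        (((AlgSp.resModEt V).mapHomologicalComplex (ComplexShape.up ℤ)).obj K) ≅
      ((AlgSp.resModEt W).mapHomologicalComplex (ComplexShape.up ℤ)).obj K :=
  HomologicalComplex.Hom.isoOfComponents
    (fun i => (SheafOfModules.overFunctorMap.{u + 1} (AlgSp.OEtRing X) g).app (K.X i))
    (fun i j _ => ((SheafOfModules.overFunctorMap.{u + 1} (AlgSp.OEtRing X) g).hom.naturality (K.d i j)).symm)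

/-- The finite free module over an object. -/
abbrev freeN (V : AlgSp.EtOver X) (k : ℕ) : AlgSp.ModEtOn V :=
  SheafOfModules.free (R := AlgSp.OEtOn V) (ULift.{u + 1} (Fin k))

/-- Coordinate projections. -/
def pr {k : ℕ} (V : AlgSp.EtOver X) (l : ULift.{u + 1} (Fin k)) :
    freeN V k ⟶ SheafOfModules.unit (AlgSp.OEtOn V) :=
  open scoped Classical in Sigma.desc fun l' => if l' = l then 𝟙 _ else 0

/-- Coordinate inclusions. -/
abbrev inc {k : ℕ} (V : AlgSp.EtOver X) (l : ULift.{u + 1} (Fin k)) :
    SheafOfModules.unit (AlgSp.OEtOn V) ⟶ freeN V k :=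
  SheafOfModules.ιFree l

theorem inc_pr {k : ℕ} (V : AlgSp.EtOver X) (l l' : ULift.{u + 1} (Fin k)) [Decidable (l' = l)] :
    inc V l' ≫ pr V l = if l' = l then 𝟙 _ else 0 := by
  classical
  refine (Sigma.ι_desc _ _).trans ?_
  congr

theorem sum_pr_inc {k : ℕ} (V : AlgSp.EtOver X) :
    ∑ l : ULift.{u + 1} (Fin k), pr V l ≫ inc V l = 𝟙 _ := by
  classical
  refine Cofan.IsColimit.hom_ext (SheafOfModules.isColimitFreeCofan _) _ _ fun j => ?_
  rw [SheafOfModules.freeCofan_inj]
  refine (Preadditive.comp_sum _ (SheafOfModules.ιFree (R := AlgSp.OEtOn V) j) _).trans ?_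
  refine Eq.trans ?_ (Category.comp_id _).symm
  rw [Finset.sum_eq_single j]
  · rw [← Category.assoc]
    exact (congrArg (· ≫ _) ((inc_pr V j j).trans (if_pos rfl))).trans (Category.id_comp _)
  · intro i _ hij
    rw [← Category.assoc]
    exact (congrArg (· ≫ _) ((inc_pr V i j).trans (if_neg (Ne.symm hij)))).trans zero_comp
  · simp

/-- A restriction of a finite free module is finite free, up to a summand. -/
theorem isSummand_rG_free (k : ℕ) : DCoh.IsFinFreeSummandMod (AlgSp.OEtOn W) ((rG g).obj (freeN V k)) := by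
  classical
  let i : (rG g).obj (freeN V k) ⟶ freeN W k := ∑ l, (rG g).map (pr V l) ≫ inc W l
  let p : freeN W k ⟶ (rG g).obj (freeN V k) :=
    ∑ l : ULift.{u + 1} (Fin k), pr W l ≫ (rG g).map (inc V l)
  refine ⟨k, i, p, ?_⟩
  have h : ∀ l : ULift.{u + 1} (Fin k), inc W l ≫ p = (rG g).map (inc V l) := fun l => by
    refine (Preadditive.comp_sum _ _ _).trans ?_
    rw [Finset.sum_eq_single l]
    · rw [← Category.assoc]
      exact (congrArg (· ≫ _) ((inc_pr W l l).trans (if_pos rfl))).trans (Category.id_comp _)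
    · intro l' _ hl
      rw [← Category.assoc]
      exact (congrArg (· ≫ _) ((inc_pr W l' l).trans (if_neg (Ne.symm hl)))).trans zero_comp
    · simp
  refine (Preadditive.sum_comp _ _ _).trans ?_
  calc ∑ l, ((rG g).map (pr V l) ≫ inc W l) ≫ p = ∑ l, (rG g).map (pr V l ≫ inc V l) := by
        refine Finset.sum_congr rfl fun l _ => ?_
        rw [Category.assoc, h, Functor.map_comp]
    _ = _ := by rw [← Functor.map_sum, sum_pr_inc, CategoryTheory.Functor.map_id]

theorem isSummand_of_iso {M N : AlgSp.ModEtOn W} (e : M ≅ N) (h : DCoh.IsFinFreeSummandMod (AlgSp.OEtOn W) M) :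
    DCoh.IsFinFreeSummandMod (AlgSp.OEtOn W) N := by
  obtain ⟨n, i, p, hip⟩ := h
  exact ⟨n, e.inv ≫ i, p ≫ e.hom, by rw [Category.assoc, reassoc_of% hip, e.inv_hom_id]⟩

theorem isSummand_rG {M : AlgSp.ModEtOn V} (h : DCoh.IsFinFreeSummandMod (AlgSp.OEtOn V) M) :
    DCoh.IsFinFreeSummandMod (AlgSp.OEtOn W) ((rG g).obj M) := by
  obtain ⟨n, i, p, hip⟩ := h
  obtain ⟨k, i', p', h'⟩ := isSummand_rG_free g n
  exact ⟨k, (rG g).map i ≫ i', p' ≫ (rG g).map p, by
    rw [Category.assoc, reassoc_of% h', ← Functor.map_comp, hip, CategoryTheory.Functor.map_id]⟩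

/-- The terminal object of a slice. -/
abbrev topOn (V : AlgSp.EtOver X) : Over V := Over.mk (𝟙 V)

/-- Lifting maps out of finite free modules along epimorphisms, locally. -/
theorem exists_lift {M N : AlgSp.ModEtOn V} (e : M ⟶ N) [Epi e] {k : ℕ} (ψ : freeN V k ⟶ N)
    (hV : Aff X V) :
    ∀ z : V.obj.left.left, ∃ (W : AlgSp.EtOver X) (g : W ⟶ V) (l : (rG g).obj (freeN V k) ⟶ (rG g).obj M),
      Aff X W ∧ z ∈ Set.range g.hom.left.left ∧ l ≫ (rG g).map e = (rG g).map ψ := by
  classical
  intro z
  let s : ∀ l : ULift.{u + 1} (Fin k), N.val.obj (op (topOn V)) := fun l =>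
    ((N.unitHomEquiv (inc V l ≫ ψ)).val (op (topOn V)))
  choose R hR hp using fun l => AlgSpShriek.exists_local_lift e (s l)
  have hR' : (Finset.univ : Finset (ULift.{u + 1} (Fin k))).inf R ∈ (AlgSp.etTop X).over V (topOn V) := by
    refine Finset.induction_on (Finset.univ : Finset (ULift.{u + 1} (Fin k))) ?_ fun a t _ ih => ?_
    · rw [Finset.inf_empty]
      exact GrothendieckTopology.top_mem _ _
    · rw [Finset.inf_insert]
      exact GrothendieckTopology.intersection_covering _ (hR a) ih
  obtain ⟨n, Z, f, hZ, hS, hs⟩ := ((affSite X).over V).refine_cover (X := topOn V) hV _ hR'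
  obtain ⟨i, q, hq⟩ := hs (primeO V z)
  obtain ⟨w, rfl⟩ := exists_primeO (hZ i) q
  let g : (Z i).left ⟶ V := (f i).left
  have hz : g.hom.left.left w = z := by
    have h1 : PrimeSpectrum.comap (rh (AlgSp.OEt X).obj g) (primeO (Z i).left w) = primeO V z := hq
    rw [comap_primeO] at h1
    haveI : IsAffine V.obj.left.left := hV
    have h2 := congrArg (PrimeSpectrum.comap (upEquiv X V).toRingHom) h1
    apply (asIso V.obj.left.left.toSpecΓ).hom.homeomorph.injective
    exact (PrimeSpectrum.comap_injective_of_surjective _ (upEquiv X V).symm.surjective h1)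
  have hl : ∀ l, ∃ t : SheafOfModules.unit (AlgSp.OEtOn (Z i).left) ⟶ (rG g).obj M,
      t ≫ (rG g).map e = (rG g).map (inc V l ≫ ψ) := fun l => by
    obtain ⟨p, hp'⟩ := hp l (f i) ((Finset.inf_le (f := R) (Finset.mem_univ l)) _ (hS i))
    let T' := topOn (Z i).left
    have hT : (Over.map g).obj T' ≅ Z i := Over.isoMk (Iso.refl _) (by
      have := Over.w (f i)
      simp only [Over.mk_hom, Category.comp_id] at this
      simpa [T', g] using this.symm)
    let p' : ((rG g).obj M).val.obj (op T') := M.val.map hT.hom.op p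
    refine ⟨((rG g).obj M).unitHomEquiv.symm (secOf (O := (AlgSp.OEt X).over (Z i).left) Over.mkIdTerminal
      ((rG g).obj M) p'), ((rG g).obj N).unitHomEquiv.injective ?_⟩
    refine Subtype.ext (funext fun Y => ?_)
    have key : ∀ (σ τ : ((rG g).obj N).sections), σ.val (op T') = τ.val (op T') → σ.val Y = τ.val Y := fun σ τ h => by
      rw [← σ.property (Over.mkIdTerminal.from Y.unop).op, ← τ.property (Over.mkIdTerminal.from Y.unop).op]
      exact congrArg _ h
    refine key _ _ ?_
    rw [SheafOfModules.unitHomEquiv_comp_apply, Equiv.apply_symm_apply]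
    show e.val.app (op ((Over.map g).obj T')) (((rG g).obj M).val.presheaf.map (Over.mkIdTerminal.from T').op p') =
      (((rG g).obj N).unitHomEquiv ((rG g).map (inc V l ≫ ψ))).val (op T')
    have h1 : Over.mkIdTerminal.from T' = 𝟙 T' := Over.mkIdTerminal.hom_ext _ _
    rw [h1]
    refine Eq.trans (b := N.val.map hT.hom.op (N.val.map (f i).op (s l))) ?_ ?_
    · rw [← hp']
      refine Eq.trans ?_ (PresheafOfModules.naturality_apply e.val hT.hom.op p)
      exact congrArg _ (ConcreteCategory.congr_hom (((rG g).obj M).val.presheaf.map_id (op T')) p')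
    · refine (ConcreteCategory.congr_hom (N.val.presheaf.map_comp (f i).op hT.hom.op) (s l)).symm.trans ?_
      exact (N.unitHomEquiv (inc V l ≫ ψ)).property ((f i).op ≫ hT.hom.op)
  choose t ht using hl
  refine ⟨(Z i).left, g, ∑ l, (rG g).map (pr V l) ≫ t l, hZ i, ⟨w, hz⟩, ?_⟩
  refine (Preadditive.sum_comp _ _ _).trans ?_
  calc ∑ l, ((rG g).map (pr V l) ≫ t l) ≫ (rG g).map e = ∑ l, (rG g).map ((pr V l ≫ inc V l) ≫ ψ) := by
        refine Finset.sum_congr rfl fun l _ => ?_
        rw [Category.assoc, ht, ← Functor.map_comp, Category.assoc]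
    _ = _ := by
      rw [← Functor.map_sum, ← Preadditive.sum_comp, sum_pr_inc, Category.id_comp]

end Groth.Agent.AlgSpPC

end
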